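import Groth.Agent.Lib.Helper13.HomOp3
import Groth.Agent.Lib.Helper13.CMap3
import Groth.Agent.Lib.Helper13.KFlat4
import Groth.Agent.Lib.Helper13.HomTensorKProj
import Groth.Agent.Lib.Helper13.DRingKProj
import Groth.Agent.Lib.Helper13.PCSingleHom
import Groth.Agent.Lib.Helper13.WayOut3
import Groth.Agent.Lib.Helper28.KFlatAbs4

/-!
# `Hom•(P, K)` is K-flat for `P` perfect and `K` K-flat

The class of complexes `X` such that `Hom•(X, K)` is K-flat is closed under homotopy equivalences,
retracts and degreewise split extensions, and contains `A[-k]`.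
-/

set_option autoImplicit false
universe u
open CategoryTheory CategoryTheory.Limits MonoidalCategory
open CochainComplex CochainComplex.HomComplex HomologicalComplex

namespace Groth.Agent.Lib.Helper2.HomKFlat

open Groth.Agent.Lib.Helper13.HT Groth.Agent.Lib.Helper13.HOp Groth.Agent.Lib.Helper13.PC
open Groth.Agent.Lib.Helper13.DV Groth.Agent.Lib.Helper28 Groth.Agent.Lib.Helper13.DT

attribute [local instance] HasDerivedCategory.standard

variable {A : Type u} [CommRing A]

/-- Precomposition is compatible with homotopies. -/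
lemma nonempty_homotopy_preMap {P P' : DRing.Cx A} {f g : P' ⟶ P} (h : Homotopy f g)
    (L : DRing.Cx A) : Nonempty (Homotopy (preMap f L) (preMap g L)) := by
  have hf : uncurryHom (preMap f L) = DRing.homCx P L ◁ f ≫ evCx P L := by
    rw [← whiskerRight_evCx, whiskerLeft_evCx]
  have hg : uncurryHom (preMap g L) = DRing.homCx P L ◁ g ≫ evCx P L := by
    rw [← whiskerRight_evCx, whiskerLeft_evCx]
  obtain ⟨h1⟩ := nonempty_homotopy_tensorHom (f := 𝟙 (DRing.homCx P L))
    (f' := 𝟙 (DRing.homCx P L)) ⟨Homotopy.refl _⟩ ⟨h⟩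
  rw [id_tensorHom, id_tensorHom] at h1
  refine nonempty_homotopy_of_uncurryHom ?_
  rw [hf, hg]
  exact h1.compRight _

/-- `Hom•(-, L)` preserves homotopy equivalences. -/
lemma nonempty_homotopyEquiv_homCx {P P' : DRing.Cx A} (e : HomotopyEquiv P P')
    (L : DRing.Cx A) : Nonempty (HomotopyEquiv (DRing.homCx P L) (DRing.homCx P' L)) := by
  obtain ⟨h1⟩ := nonempty_homotopy_preMap e.homotopyHomInvId L
  obtain ⟨h2⟩ := nonempty_homotopy_preMap e.homotopyInvHomId L
  refine ⟨⟨preMap e.inv L, preMap e.hom L, ?_, ?_⟩⟩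
  · refine (Homotopy.ofEq ?_).trans (h1.trans (Homotopy.ofEq ?_))
    · rw [← preMap_comp]
    · rw [preMap_id]
  · refine (Homotopy.ofEq ?_).trans (h2.trans (Homotopy.ofEq ?_))
    · rw [← preMap_comp]
    · rw [preMap_id]

/-- K-flatness passes to retracts. -/
lemma kflat_of_retract {Z W : DRing.Cx A} (i : Z ⟶ W) (r : W ⟶ Z) (h : i ≫ r = 𝟙 Z)
    (hW : KFlat W) : KFlat Z := by
  intro L hL n
  have h0 := hW L hL n
  rw [IsZero.iff_id_eq_zero]
  have h1 : 𝟙 ((L ⊗ Z).homology n) =
      HomologicalComplex.homologyMap (L ◁ i) n ≫ HomologicalComplex.homologyMap (L ◁ r) n := by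
    rw [← HomologicalComplex.homologyMap_comp, ← MonoidalCategory.whiskerLeft_comp, h,
      MonoidalCategory.whiskerLeft_id, HomologicalComplex.homologyMap_id]
  rw [h1, h0.eq_of_tgt (HomologicalComplex.homologyMap (L ◁ i) n) 0, zero_comp]

variable (K : DRing.Cx A)

/-- The class of complexes `X` such that `Hom•(X, K)` is K-flat. -/
def Good (X : DRing.Cx A) : Prop := KFlat (DRing.homCx X K)

variable {K}

lemma good_of_retract {X Y : DRing.Cx A} (i : X ⟶ Y) (r : Y ⟶ X) (h : i ≫ r = 𝟙 X)
    (hY : Good K Y) : Good K X := by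
  refine kflat_of_retract (preMap r K) (preMap i K) ?_ hY
  rw [← preMap_comp, h, preMap_id]

lemma good_of_iso {X Y : DRing.Cx A} (e : X ≅ Y) (hX : Good K X) : Good K Y :=
  good_of_retract e.inv e.hom e.inv_hom_id hX

lemma good_of_homotopyEquiv {X Y : DRing.Cx A} (e : HomotopyEquiv X Y) (hX : Good K X) :
    Good K Y := by
  obtain ⟨e'⟩ := nonempty_homotopyEquiv_homCx e K
  exact kflat_of_homotopyEquiv e' hX

lemma good_of_split (S : ShortComplex (DRing.Cx A))
    (σ : ∀ n, (S.map (HomologicalComplex.eval _ _ n)).Splitting)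
    (h₁ : Good K S.X₁) (h₃ : Good K S.X₃) : Good K S.X₂ := by
  have h := (KFlatAbs.isKFlat_two_of_three_of_split (T := curriedTensor (ModuleCat.{u} A))
    (homShortComplex S K) (homShortComplexSplitting S σ K)).2.1
  exact (kflat_iff_abs _).2 (h ((kflat_iff_abs _).1 h₃) ((kflat_iff_abs _).1 h₁))

lemma good_of_isZero (X : DRing.Cx A) (hX : ∀ n, IsZero (X.X n)) : Good K X := by
  refine (kflat_iff_abs _).2 (KFlatAbs.isKFlat_of_isZero_X _ _ (fun n => ?_))
  exact isZero_homCx_X X K n (fun p => Or.inl (hX p))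

lemma good_XU (hK : KFlat K) (k : ℤ) : Good K (XU A k) := by
  intro L hL n
  have : CochainComplex.IsKProjective (XU A k) :=
    Groth.Agent.Lib.Helper13.PC.isKProjective_single (ModuleCat.of A A) k
  have hZ : (L ⊗ K).Acyclic := by
    intro i
    rw [HomologicalComplex.exactAt_iff_isZero_homology]
    exact hK L hL i
  have h2 := acyclic_homCx (XU A k) (L ⊗ K) hZ n
  rw [HomologicalComplex.exactAt_iff_isZero_homology] at h2
  exact h2.of_iso ((HomologicalComplex.homologyFunctor _ _ n).mapIso
    (asIso (cMap L (XU A k) K)))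

end Groth.Agent.Lib.Helper2.HomKFlat
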