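import Groth.Agent.Lib.Helper2.HomKFlat.Basic

/-!
# Dévissage: `Hom•(E, K)` is K-flat for `E` a bounded complex of finite projective modules
-/

set_option autoImplicit false
universe u
open CategoryTheory CategoryTheory.Limits MonoidalCategory
open CochainComplex CochainComplex.HomComplex HomologicalComplex

namespace Groth.Agent.Lib.Helper2.HomKFlat

open Groth.Agent.Lib.Helper13.HT Groth.Agent.Lib.Helper13.HOp Groth.Agent.Lib.Helper13.PC
open Groth.Agent.Lib.Helper13.DV Groth.Agent.Lib.Helper28 Groth.Agent.Lib.Helper13.DT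

attribute [local instance] HasDerivedCategory.standard

variable {A : Type u} [CommRing A] (K : DRing.Cx A)

/-- The class of modules `Q` such that `Hom•(Q[-k], K)` is K-flat for all `k`. -/
def GoodM (Q : ModuleCat.{u} A) : Prop :=
  ∀ k : ℤ, Good K ((HomologicalComplex.single (ModuleCat.{u} A) (ComplexShape.up ℤ) k).obj Q)

variable {K}

lemma goodM_of_retract {Q Q' : ModuleCat.{u} A} (i : Q ⟶ Q') (r : Q' ⟶ Q) (h : i ≫ r = 𝟙 Q)
    (hQ' : GoodM K Q') : GoodM K Q := fun k =>
  good_of_retract ((HomologicalComplex.single _ _ k).map i) ((HomologicalComplex.single _ _ k).map r)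
    (by rw [← CategoryTheory.Functor.map_comp, h, CategoryTheory.Functor.map_id]) (hQ' k)

lemma goodM_of_splitting (S₀ : ShortComplex (ModuleCat.{u} A)) (σ : S₀.Splitting)
    (h₁ : GoodM K S₀.X₁) (h₃ : GoodM K S₀.X₃) : GoodM K S₀.X₂ := fun k =>
  good_of_split (S₀.map (HomologicalComplex.single (ModuleCat.{u} A) (ComplexShape.up ℤ) k))
    (fun n => σ.map (HomologicalComplex.single (ModuleCat.{u} A) (ComplexShape.up ℤ) k ⋙
      HomologicalComplex.eval _ _ n)) (h₁ k) (h₃ k)

lemma goodM_of_isZero (Q : ModuleCat.{u} A) (hQ : IsZero Q) : GoodM K Q := fun k =>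
  good_of_isZero _ (fun n => by
    by_cases h : n = k
    · subst h
      exact hQ.of_iso (HomologicalComplex.singleObjXSelf (ComplexShape.up ℤ) n Q)
    · exact HomologicalComplex.isZero_single_obj_X (ComplexShape.up ℤ) k Q n h)

lemma goodM_unit (hK : KFlat K) : GoodM K (ModuleCat.of A A) := fun k => good_XU hK k

section Pi

variable (A) (n : ℕ)

/-- inclusion of the first coordinate -/
def piF : A →ₗ[A] (Fin (n + 1) → A) := LinearMap.single A (fun _ : Fin (n + 1) => A) 0
/-- forgetting the first coordinate -/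
def piG : (Fin (n + 1) → A) →ₗ[A] (Fin n → A) := LinearMap.funLeft A A Fin.succ
/-- the first coordinate -/
def piR : (Fin (n + 1) → A) →ₗ[A] A := LinearMap.proj 0
/-- adding a zero first coordinate -/
def piS : (Fin n → A) →ₗ[A] (Fin (n + 1) → A) :=
  LinearMap.pi (fun i : Fin (n + 1) =>
    Fin.cases (0 : (Fin n → A) →ₗ[A] A) (fun j => LinearMap.proj j) i)

lemma piG_piF : piG A n ∘ₗ piF A n = 0 := by
  apply LinearMap.ext
  intro a
  funext i
  simp [piG, piF, LinearMap.funLeft]

lemma piR_piF : piR A n ∘ₗ piF A n = LinearMap.id := by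
  apply LinearMap.ext
  intro a
  simp [piR, piF]

lemma piG_piS : piG A n ∘ₗ piS A n = LinearMap.id := by
  apply LinearMap.ext
  intro w
  funext i
  simp [piG, piS, LinearMap.funLeft]

lemma piF_piR_add : piF A n ∘ₗ piR A n + piS A n ∘ₗ piG A n = LinearMap.id := by
  apply LinearMap.ext
  intro v
  funext i
  refine Fin.cases ?_ (fun j => ?_) i
  · simp [piG, piS, piF, piR, LinearMap.funLeft]
  · simp [piG, piS, piF, piR, LinearMap.funLeft]

end Pi

/-- The split short complex `A ⟶ A^{n+1} ⟶ A^n`. -/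
noncomputable def piSC (n : ℕ) : ShortComplex (ModuleCat.{u} A) :=
  ShortComplex.mk
    (ModuleCat.ofHom (piF A n) : ModuleCat.of A A ⟶ ModuleCat.of A (Fin (n + 1) → A))
    (ModuleCat.ofHom (piG A n) : ModuleCat.of A (Fin (n + 1) → A) ⟶ ModuleCat.of A (Fin n → A))
    (by rw [← ModuleCat.ofHom_comp, piG_piF]; rfl)

/-- The splitting of `piSC`. -/
noncomputable def piSCSplitting (n : ℕ) : (piSC (A := A) n).Splitting where
  r := ModuleCat.ofHom (piR A n)
  s := ModuleCat.ofHom (piS A n)
  f_r := by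
    change ModuleCat.ofHom (piF A n) ≫ ModuleCat.ofHom (piR A n) = 𝟙 _
    rw [← ModuleCat.ofHom_comp, piR_piF]; rfl
  s_g := by
    change ModuleCat.ofHom (piS A n) ≫ ModuleCat.ofHom (piG A n) = 𝟙 _
    rw [← ModuleCat.ofHom_comp, piG_piS]; rfl
  id := by
    change ModuleCat.ofHom (piR A n) ≫ ModuleCat.ofHom (piF A n) +
      ModuleCat.ofHom (piG A n) ≫ ModuleCat.ofHom (piS A n) = 𝟙 _
    rw [← ModuleCat.ofHom_comp, ← ModuleCat.ofHom_comp, ← ModuleCat.ofHom_add, piF_piR_add]; rfl

lemma goodM_pi (hK : KFlat K) (n : ℕ) : GoodM K (ModuleCat.of A (Fin n → A)) := by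
  induction n with
  | zero =>
    exact goodM_of_isZero _ (ModuleCat.isZero_of_subsingleton _)
  | succ n ih =>
    exact goodM_of_splitting (piSC n) (piSCSplitting n) (goodM_unit hK) ih

lemma goodM_of_finite_projective (hK : KFlat K) (Q : ModuleCat.{u} A) [Module.Finite A Q]
    [Module.Projective A Q] : GoodM K Q := by
  obtain ⟨n, f, hf⟩ := Module.Finite.exists_fin' A Q
  obtain ⟨s, hs⟩ := Module.projective_lifting_property f LinearMap.id hf
  refine goodM_of_retract (ModuleCat.ofHom s) (ModuleCat.ofHom f) ?_ (goodM_pi hK n)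
  ext x
  exact LinearMap.congr_fun hs x

/-- **Dévissage**: `Hom•(E, K)` is K-flat for `E` bounded termwise finite projective. -/
theorem good_of_bounded (hK : KFlat K) (E : DRing.Cx A) (a b : ℤ)
    (hE : DRing.VanishesOutside E a b) (hfp : DRing.TermwiseFiniteProjective E) : Good K E := by
  have key : ∀ m : ℕ, Good K (KFlatAbs.trunc E (b + 1 - m)) := by
    intro m
    induction m with
    | zero =>
      refine good_of_isZero _ (fun n => ?_)
      by_cases h : b + 1 - ((0 : ℕ) : ℤ) ≤ n
      · have hz : IsZero (E.X n) := hE n (Or.inr (by omega))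
        rw [IsZero.iff_id_eq_zero]
        apply KFlatAbs.truncX_ext
        intro h'
        exact hz.eq_of_src _ _
      · exact KFlatAbs.isZero_truncX E _ n h
    | succ m ih =>
      have e : b + 1 - ((m + 1 : ℕ) : ℤ) + 1 = b + 1 - (m : ℤ) := by push_cast; ring
      have ih' : Good K (KFlatAbs.trunc E (b + 1 - ((m + 1 : ℕ) : ℤ) + 1)) := by rw [e]; exact ih
      have := (hfp (b + 1 - ((m + 1 : ℕ) : ℤ))).1
      have := (hfp (b + 1 - ((m + 1 : ℕ) : ℤ))).2
      exact good_of_split (KFlatAbs.truncSC E (b + 1 - ((m + 1 : ℕ) : ℤ)))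
        (KFlatAbs.truncSCSplitting E _) ih'
        (goodM_of_finite_projective hK (E.X (b + 1 - ((m + 1 : ℕ) : ℤ))) _)
  obtain ⟨m, hm⟩ : ∃ m : ℕ, b + 1 - (m : ℤ) ≤ a := ⟨(b + 1 - a).toNat, by omega⟩
  have hiso : IsIso (KFlatAbs.truncInc E (b + 1 - (m : ℤ))) := by
    have hn : ∀ n : ℤ, IsIso ((KFlatAbs.truncInc E (b + 1 - (m : ℤ))).f n) := by
      intro n
      by_cases h : b + 1 - (m : ℤ) ≤ n
      · exact KFlatAbs.isIso_truncInc_f E _ n h
      · have h1 : IsZero (KFlatAbs.truncX E (b + 1 - (m : ℤ)) n) :=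
          KFlatAbs.isZero_truncX E _ n h
        have h2 : IsZero (E.X n) := hE n (Or.inl (by omega))
        exact ⟨0, h1.eq_of_src _ _, h2.eq_of_src _ _⟩
    exact HomologicalComplex.Hom.isIso_of_components _
  exact good_of_iso (asIso (KFlatAbs.truncInc E (b + 1 - (m : ℤ)))) (key m)

/-- **Main theorem**: `Hom•(P, K)` is K-flat if `P` is a bounded above complex of projectives
which is perfect and `K` is K-flat. -/
theorem kflat_homCx_of_isPerfect (P : DRing.Cx A) (b : ℤ)
    (hPb : DRing.VanishesAbove P b) (hPp : ∀ i : ℤ, Module.Projective A (P.X i))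
    (hperf : DRing.IsPerfect A (DRing.toD P)) (hK : KFlat K) : KFlat (DRing.homCx P K) := by
  obtain ⟨E, a', b', hE, hfp, ⟨e⟩⟩ := hperf
  have hP : P.IsKProjective :=
    isKProjective_of_forall_projective P b hPb
      (fun i => ModuleCat.projective_of_categoryTheory_projective (P.X i))
  have hEk : E.IsKProjective :=
    isKProjective_of_forall_projective E b' (fun i hi => hE i (Or.inr hi))
      (fun i => by
        have := (hfp i).2
        exact ModuleCat.projective_of_categoryTheory_projective (E.X i))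
  obtain ⟨he⟩ := nonempty_homotopyEquiv_of_iso (P := E) (P' := P) e
  exact good_of_homotopyEquiv he (good_of_bounded hK E a' b' hE hfp)

end Groth.Agent.Lib.Helper2.HomKFlat
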